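import Cfsg.Agent.Lib.KnownA.ON.Order
import Cfsg.Agent.Lib.Classical.SLGen
import Cfsg.Agent.Lib.Classical.SLOrder
import Mathlib.GroupTheory.SemidirectProduct

/-!
# The subgroup ⟨a, …, f⟩ of the presented O'Nan group is L₃(7):2

The relations among the six involutions already present a group of order at most 3753792; it maps
onto the extension of PSL(3, 7) by the transpose-inverse automorphism.
-/

set_option autoImplicit false
set_option maxRecDepth 100000

namespace CfsgLib.KnownA.ONL37

open CfsgLib.InvChar.Coset Cfsg.Spor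
open scoped MatrixGroups

instance fact_seven : Fact (Nat.Prime 7) := ⟨by norm_num⟩

/-- The six involutory generators. -/
inductive G6
  | a | b | c | d | e | f
  deriving DecidableEq

/-- numbering -/
def idx : G6 → ℕ
  | .a => 0 | .b => 1 | .c => 2 | .d => 3 | .e => 4 | .f => 5

/-- generators by number -/
def ofN : ℕ → G6
  | 0 => .a | 1 => .b | 2 => .c | 3 => .d | 4 => .e | _ => .f

/-- The Coxeter path. -/
def edges : List (G6 × ℕ × G6) :=
  [(.a, 3, .b), (.b, 3, .c), (.c, 8, .d), (.d, 3, .e), (.e, 3, .f)]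

/-- The relation `a f = (c d) ^ 4`. -/
def extra : List (FreeGroup G6) :=
  [(FreeGroup.of G6.a * FreeGroup.of G6.f) * ((FreeGroup.of G6.c * FreeGroup.of G6.d) ^ 4)⁻¹]

theorem pres : IsPres edges extra 6 idx ofN ONData.H0.rels where
  left a := by cases a <;> decide
  check := by decide +kernel

/-- The presented group of the six involutions. -/
abbrev K6 : Type := CoxPresented G6 edges extra

theorem rels_subGen6 (emb : List ℕ) (R : List (List ℕ))
    (h : ∀ r ∈ R, (∀ x ∈ r, x < emb.length) ∧ r.map (fun x => emb.getD x 0) ∈ ONData.H0.rels) :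
    ∀ r ∈ R, wprod (subGen pres.gen emb) r = 1 := by
  intro r hr
  obtain ⟨h1, h2⟩ := h r hr
  rw [wprod_subGen pres.gen emb r h1]
  exact pres.gen_rel _ h2

theorem card_K6_le : Finite K6 ∧ Nat.card K6 ≤ 3753792 := by
  have hs := pres.gen_mul_self
  have h0 := card_lettersClosure_nil pres.gen
  have h1 := ONData.H5.covered.chain_step pres.gen hs ONData.H5.emb [] rfl
    (rels_subGen6 _ _ (by decide +kernel)) (by decide) (by decide +kernel) h0.1 h0.2
  have h2 := ONData.H4.covered.chain_step pres.gen hs ONData.H4.emb ONData.H5.emb rfl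
    (rels_subGen6 _ _ (by decide +kernel)) (by decide) (by decide +kernel) h1.1 h1.2
  have h3 := ONData.H3.covered.chain_step pres.gen hs ONData.H3.emb ONData.H4.emb rfl
    (rels_subGen6 _ _ (by decide +kernel)) (by decide) (by decide +kernel) h2.1 h2.2
  have h4 := ONData.H2.covered.chain_step pres.gen hs ONData.H2.emb ONData.H3.emb rfl
    (rels_subGen6 _ _ (by decide +kernel)) (by decide) (by decide +kernel) h3.1 h3.2
  have h5 := ONData.H1.covered.chain_step pres.gen hs ONData.H1.emb ONData.H2.emb rfl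
    (rels_subGen6 _ _ (by decide +kernel)) (by decide) (by decide +kernel) h4.1 h4.2
  have h6 := ONData.H0.covered.chain_step pres.gen hs ONData.H0.emb ONData.H1.emb rfl
    (rels_subGen6 _ _ (by decide +kernel)) (by decide) (by decide +kernel) h5.1 h5.2
  have htop : lettersClosure pres.gen ONData.H0.emb = ⊤ := by
    refine top_le_iff.1 ?_
    rw [← pres.closure_gen, Subgroup.closure_le]
    rintro _ ⟨x, hx, rfl⟩
    have := mem_lettersClosure pres.gen ONData.H0.emb (r := [x])
      ((by decide +kernel : ∀ x < 6, [x] ∈ ONData.H0.emb.map (fun x => [x])) x hx)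
    simpa [wprod] using this
  rw [htop] at h6
  haveI := h6.1
  refine ⟨Finite.of_equiv _ Subgroup.topEquiv.toEquiv, ?_⟩
  rw [← Nat.card_congr (Subgroup.topEquiv (G := K6)).toEquiv]
  exact h6.2.trans (le_of_eq rfl)

theorem exists_equiv_H : Nonempty (K6 ≃* ONPres.H) := by
  haveI := card_K6_le.1
  obtain ⟨φ, hφ⟩ := pres.exists_hom ONPres.genH ONPres.genH_mul_self fun r hr => by
    rw [ONPres.wprod_genH ((by decide +kernel : ∀ r ∈ ONData.H0.rels, ∀ x ∈ r, x < 6) r hr)]
    exact ONPres.gen_rel r ((by decide +kernel : ∀ r ∈ ONData.H0.rels, r ∈ ONData.rels) r hr)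
  have hrange : φ.range = ONPres.H := by
    rw [MonoidHom.range_eq_map, ← pres.closure_gen, MonoidHom.map_closure, ONPres.H, wordsClosure]
    congr 1
    ext y
    constructor
    · rintro ⟨_, ⟨x, hx, rfl⟩, rfl⟩
      refine ⟨[x], (by decide +kernel : ∀ x < 6, [x] ∈ ONData.subs) x hx, ?_⟩
      rw [hφ x hx, ← ONPres.wprod_genH (L := [x]) (by simpa using hx)]
      simp [wprod]
    · rintro ⟨L, hL, rfl⟩
      obtain ⟨x, hx, rfl⟩ := (by decide +kernel : ∀ L ∈ ONData.subs, ∃ x < 6, L = [x]) L hL
      refine ⟨_, ⟨x, hx, rfl⟩, ?_⟩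
      rw [hφ x hx, ← ONPres.wprod_genH (L := [x]) (by simpa using hx)]
      simp [wprod]
  have hb : Function.Bijective φ.rangeRestrict :=
    φ.rangeRestrict_surjective.bijective_of_nat_card_le (by
      rw [hrange, ONPres.order_facts.1]; exact card_K6_le.2)
  exact ⟨(MulEquiv.ofBijective _ hb).trans (MulEquiv.subgroupCongr hrange)⟩

/-- SL(3, 7). -/
abbrev SL37 : Type := Matrix.SpecialLinearGroup (Fin 3) (ZMod 7)

/-- Symmetric matrices for the generators. -/
def mS : ℕ → SL37
  | 0 => ⟨!![3, 1, 1; 1, 1, 3; 1, 3, 1], by decide +kernel⟩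
  | 1 => ⟨!![2, 1, 2; 1, 1, 3; 2, 3, 4], by decide +kernel⟩
  | 3 => ⟨!![4, 2, 4; 2, 0, 5; 4, 5, 0], by decide +kernel⟩
  | 4 => ⟨!![3, 0, 0; 0, 0, 3; 0, 3, 0], by decide +kernel⟩
  | 5 => ⟨!![3, 5, 3; 5, 0, 2; 3, 2, 3], by decide +kernel⟩
  | _ => 1

/-- Their inverses. -/
def mSi : ℕ → SL37
  | 0 => ⟨!![6, 2, 2; 2, 2, 6; 2, 6, 2], by decide +kernel⟩
  | 1 => ⟨!![2, 2, 1; 2, 4, 3; 1, 3, 1], by decide +kernel⟩
  | 3 => ⟨!![3, 6, 3; 6, 5, 2; 3, 2, 3], by decide +kernel⟩
  | 4 => ⟨!![5, 0, 0; 0, 0, 5; 0, 5, 0], by decide +kernel⟩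
  | 5 => ⟨!![3, 5, 3; 5, 0, 2; 3, 2, 3], by decide +kernel⟩
  | _ => 1

theorem mS_mul_mSi (x : ℕ) : mS x * mSi x = 1 := by
  rcases Nat.lt_or_ge x 6 with hx | hx
  · exact (by decide +kernel : ∀ x < 6, mS x * mSi x = 1) x hx
  · obtain ⟨n, rfl⟩ : ∃ n, x = n + 6 := ⟨x - 6, by omega⟩
    rw [show mS (n + 6) = 1 from rfl, show mSi (n + 6) = 1 from rfl, mul_one]

theorem mSi_transpose (x : ℕ) : (mSi x).transpose = mSi x := by
  apply Subtype.ext
  rcases Nat.lt_or_ge x 6 with hx | hx
  · exact (by decide +kernel : ∀ x < 6, (mSi x).val.transpose = (mSi x).val) x hx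
  · obtain ⟨n, rfl⟩ : ∃ n, x = n + 6 := ⟨x - 6, by omega⟩
    rw [show mSi (n + 6) = 1 from rfl]
    exact Matrix.transpose_one

/-- Transpose-inverse. -/
def theta : MulAut SL37 where
  toFun A := (A⁻¹).transpose
  invFun A := (A⁻¹).transpose
  left_inv A := by
    have h : ((A⁻¹).transpose)⁻¹ = A.transpose := by
      refine inv_eq_of_mul_eq_one_right (Subtype.ext ?_)
      simp only [Matrix.SpecialLinearGroup.coe_mul, Matrix.SpecialLinearGroup.coe_transpose,
        ← Matrix.transpose_mul, Matrix.SpecialLinearGroup.coe_one]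
      rw [← Matrix.SpecialLinearGroup.coe_mul, mul_inv_cancel, Matrix.SpecialLinearGroup.coe_one,
        Matrix.transpose_one]
    show (((A⁻¹).transpose)⁻¹).transpose = A
    rw [h]
    exact Subtype.ext (Matrix.transpose_transpose _)
  right_inv A := by
    have h : ((A⁻¹).transpose)⁻¹ = A.transpose := by
      refine inv_eq_of_mul_eq_one_right (Subtype.ext ?_)
      simp only [Matrix.SpecialLinearGroup.coe_mul, Matrix.SpecialLinearGroup.coe_transpose,
        ← Matrix.transpose_mul, Matrix.SpecialLinearGroup.coe_one]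
      rw [← Matrix.SpecialLinearGroup.coe_mul, mul_inv_cancel, Matrix.SpecialLinearGroup.coe_one,
        Matrix.transpose_one]
    show (((A⁻¹).transpose)⁻¹).transpose = A
    rw [h]
    exact Subtype.ext (Matrix.transpose_transpose _)
  map_mul' A B := by
    show ((A * B)⁻¹).transpose = (A⁻¹).transpose * (B⁻¹).transpose
    rw [mul_inv_rev]
    apply Subtype.ext
    simp only [Matrix.SpecialLinearGroup.coe_mul, Matrix.SpecialLinearGroup.coe_transpose,
      Matrix.transpose_mul]

theorem theta_mul_theta : theta * theta = 1 := MulEquiv.ext theta.left_inv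

theorem theta_mS (x : ℕ) : theta (mS x) = mSi x := by
  show ((mS x)⁻¹).transpose = mSi x
  rw [inv_eq_of_mul_eq_one_right (mS_mul_mSi x), mSi_transpose]

/-- The action of the group of order two. -/
def act : Multiplicative (ZMod 2) →* MulAut SL37 where
  toFun z := if z = 1 then 1 else theta
  map_one' := if_pos rfl
  map_mul' x y := by
    have hh : ∀ w : Multiplicative (ZMod 2), w = 1 ∨ w = Multiplicative.ofAdd 1 := by decide
    have ht : Multiplicative.ofAdd (1 : ZMod 2) * Multiplicative.ofAdd 1 = 1 := by decide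
    have hne : Multiplicative.ofAdd (1 : ZMod 2) ≠ 1 := by decide
    rcases hh x with rfl | rfl <;> rcases hh y with rfl | rfl <;> simp [ht, hne, theta_mul_theta]

/-- The nontrivial element of the group of order two. -/
def tau : Multiplicative (ZMod 2) := Multiplicative.ofAdd 1

theorem act_tau : act tau = theta := by
  show (if tau = 1 then (1 : MulAut SL37) else theta) = theta
  rw [if_neg (by decide)]

/-- The images of the generators in `SL(3, 7) ⋊ 2`. -/
def img (x : ℕ) : SL37 ⋊[act] Multiplicative (ZMod 2) := ⟨mS x, tau⟩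

/-- Value of a word of even length. -/
def evalPairs : List ℕ → SL37
  | x :: y :: L => mS x * mSi y * evalPairs L
  | _ => 1

theorem wprod_img : ∀ L : List ℕ, L.length % 2 = 0 →
    wprod img L = SemidirectProduct.inl (evalPairs L)
  | [], _ => by simp [evalPairs, wprod]
  | [x], h => by simp at h
  | x :: y :: L, h => by
    have hy : img x * img y = SemidirectProduct.inl (mS x * mSi y) := by
      refine SemidirectProduct.ext ?_ ?_
      · simp [img, act_tau, theta_mS]
      · have e : tau * tau = 1 := by decide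
        simpa [img] using e
    have e : wprod img (x :: y :: L) = img x * img y * wprod img L := by simp [wprod, mul_assoc]
    rw [e, hy, wprod_img L (by simp at h; omega), ← map_mul]
    rfl

/-- Being one of the three central scalar matrices. -/
def IsScalar3 (A : SL37) : Prop :=
  A.val = !![1, 0, 0; 0, 1, 0; 0, 0, 1] ∨ A.val = !![2, 0, 0; 0, 2, 0; 0, 0, 2] ∨
    A.val = !![4, 0, 0; 0, 4, 0; 0, 0, 4]

instance (A : SL37) : Decidable (IsScalar3 A) := by unfold IsScalar3; infer_instance

theorem mem_center_of_isScalar3 {A : SL37} (h : IsScalar3 A) : A ∈ Subgroup.center SL37 := by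
  rw [Matrix.SpecialLinearGroup.mem_center_iff]
  rcases h with h | h | h
  · exact ⟨1, by decide, by rw [h]; decide +kernel⟩
  · exact ⟨2, by decide, by rw [h]; decide +kernel⟩
  · exact ⟨4, by decide, by rw [h]; decide +kernel⟩

theorem rels_scalar : ∀ r ∈ ONData.H0.rels, r.length % 2 = 0 ∧ IsScalar3 (evalPairs r) := by
  decide +kernel

/-- PSL(3, 7). -/
abbrev PSL37 : Type := Matrix.ProjectiveSpecialLinearGroup (Fin 3) (ZMod 7)

theorem center_map_theta (f : MulAut SL37) :
    (Subgroup.center SL37).map f.toMonoidHom = Subgroup.center SL37 :=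
  Subgroup.characteristic_iff_map_eq.1 inferInstance f

/-- The induced automorphisms of PSL(3, 7). -/
def actP : Multiplicative (ZMod 2) →* MulAut PSL37 where
  toFun z := QuotientGroup.congr (Subgroup.center SL37) (Subgroup.center SL37) (act z) (center_map_theta (act z))
  map_one' := MulEquiv.ext fun q => by
    induction q using QuotientGroup.induction_on with
    | _ A =>
      show QuotientGroup.mk' _ (act 1 A) = QuotientGroup.mk' _ A
      rw [map_one]
      rfl
  map_mul' x y := MulEquiv.ext fun q => by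
    induction q using QuotientGroup.induction_on with
    | _ A =>
      show QuotientGroup.mk' _ (act (x * y) A) = QuotientGroup.mk' _ (act x (act y A))
      rw [map_mul]
      rfl

/-- The projection onto `PSL(3, 7) ⋊ 2`. -/
def proj : SL37 ⋊[act] Multiplicative (ZMod 2) →* PSL37 ⋊[actP] Multiplicative (ZMod 2) :=
  SemidirectProduct.map (QuotientGroup.mk' _) (MonoidHom.id _) fun z => by
    ext A
    rfl

theorem proj_inl_of_scalar {A : SL37} (h : IsScalar3 A) : proj (SemidirectProduct.inl A) = 1 := by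
  rw [proj, SemidirectProduct.map_inl, QuotientGroup.mk'_apply,
    (QuotientGroup.eq_one_iff A).2 (mem_center_of_isScalar3 h), map_one]

theorem exists_model : ∃ ψ : K6 →* PSL37 ⋊[actP] Multiplicative (ZMod 2),
    ∀ x < 6, ψ (pres.gen x) = proj (img x) := by
  refine pres.exists_hom (fun x => proj (img x)) (fun x => ?_) fun r hr => ?_
  · show proj (img x) * proj (img x) = 1
    rw [← map_mul]
    have h := wprod_img [x, x] (by simp)
    rw [show wprod img [x, x] = img x * img x by simp [wprod]] at h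
    have e : mS x * mSi x * 1 = 1 := by rw [mul_one, mS_mul_mSi]
    rw [h, show evalPairs [x, x] = 1 from e, map_one, map_one]
  · obtain ⟨hlen, hsc⟩ := rels_scalar r hr
    rw [← map_wprod proj img _ r fun x _ => rfl, wprod_img r hlen]
    exact proj_inl_of_scalar hsc

/-- Words for the elementary transvections, up to scalars. -/
def tvWord : Fin 3 → Fin 3 → List ℕ
  | 0, 1 => [0, 3, 2, 1, 3, 2, 3, 2, 4, 3, 2, 1, 3, 2, 3, 2, 4, 3, 2, 1, 0, 3, 2, 1, 4, 3]
  | 0, 2 => [0, 3, 2, 1, 0, 3, 2, 1, 3, 4, 3, 2, 1, 0, 3, 2, 1, 0, 3, 4, 3, 2, 1, 3]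
  | 1, 0 => [1, 0, 3, 4, 3, 2, 1, 0, 3, 2, 1, 3, 4, 3, 2, 1, 0, 3, 2, 1, 0, 4, 3, 2, 3, 4]
  | 1, 2 => [3, 2, 1, 4, 3, 2, 1, 3, 2, 1, 3, 4, 3, 2, 1, 0, 3, 2, 4, 3]
  | 2, 0 => [2, 1, 3, 2, 1, 3, 2, 4, 3, 2, 1, 3, 2, 3, 2, 1, 4, 3, 2, 1, 3, 2, 1, 3]
  | 2, 1 => [0, 2, 3, 2, 1, 3, 4, 3, 2, 1, 3, 2, 1, 4, 3, 2, 1, 3, 2, 4, 3, 2]
  | _, _ => []

theorem card_PSL37 : Nat.card PSL37 = 1876896 := by
  have h := CfsgLib.Classical.card_psl_mul (F := ZMod 7) (n := 3) (by norm_num)
  rw [Fin.prod_univ_three, ZMod.card, show Nat.gcd 3 (7 - 1) = 3 from rfl] at h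
  norm_num at h
  rw [← Nat.card_eq_fintype_card] at h
  show Nat.card (Matrix.ProjectiveSpecialLinearGroup (Fin 3) (ZMod 7)) = 1876896
  omega

theorem exists_index_two : ∃ N : Subgroup K6, N.Normal ∧ N.index = 2 ∧ Nonempty (N ≃* PSL37) := by
  haveI := card_K6_le.1
  obtain ⟨ψ, hψ⟩ := exists_model
  let χ : K6 →* Multiplicative (ZMod 2) := (SemidirectProduct.rightHom).comp ψ
  have hχgen : ∀ x < 6, χ (pres.gen x) = tau := fun x hx => by
    show SemidirectProduct.rightHom (ψ (pres.gen x)) = tau
    rw [hψ x hx]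
    rfl
  have hχ : Function.Surjective χ := fun z => by
    rcases (by decide : ∀ w : Multiplicative (ZMod 2), w = 1 ∨ w = tau) z with rfl | rfl
    · exact ⟨1, map_one χ⟩
    · exact ⟨pres.gen 0, hχgen 0 (by norm_num)⟩
  have hidx : χ.ker.index = 2 := by
    rw [Subgroup.index_ker, MonoidHom.range_eq_top.2 hχ, Subgroup.card_top, Nat.card_eq_fintype_card]
    rfl
  let μ : χ.ker →* PSL37 :=
    { toFun := fun k => (ψ (k : K6)).left
      map_one' := by simp
      map_mul' := fun x y => by
        have hx : (ψ (x : K6)).right = 1 := x.2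
        simp [SemidirectProduct.mul_left, hx] }
  let T : Subgroup SL37 := μ.range.comap (QuotientGroup.mk' _)
  have hgen : ∀ (i j : Fin 3) (hij : i ≠ j), Matrix.SpecialLinearGroup.transvection hij (1 : ZMod 7) ∈ T := by
    intro i j hij
    obtain ⟨hlen, hlt, hsc⟩ := (by decide +kernel : ∀ i j : Fin 3, ∀ hij : i ≠ j,
      (tvWord i j).length % 2 = 0 ∧ (∀ x ∈ tvWord i j, x < 6) ∧
        IsScalar3 (evalPairs (tvWord i j) *
          Matrix.SpecialLinearGroup.transvection hij (6 : ZMod 7))) i j hij
    have hψw : ψ (wprod pres.gen (tvWord i j)) = proj (SemidirectProduct.inl (evalPairs (tvWord i j))) := by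
      rw [map_wprod ψ pres.gen (fun x => proj (img x)) _ fun x hx => hψ x (hlt x hx),
        ← map_wprod proj img _ _ fun x _ => rfl, wprod_img _ hlen]
    have hker : wprod pres.gen (tvWord i j) ∈ χ.ker := by
      show SemidirectProduct.rightHom (ψ _) = 1
      rw [hψw]
      rfl
    refine ⟨⟨_, hker⟩, ?_⟩
    show (ψ (wprod pres.gen (tvWord i j))).left = _
    rw [hψw]
    show QuotientGroup.mk' _ (evalPairs (tvWord i j)) = QuotientGroup.mk' _ _
    have h6 : Matrix.SpecialLinearGroup.transvection hij (6 : ZMod 7) *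
        Matrix.SpecialLinearGroup.transvection hij (1 : ZMod 7) = 1 := by
      apply Subtype.ext
      simp only [Matrix.SpecialLinearGroup.coe_mul, Matrix.SpecialLinearGroup.coe_one]
      show Matrix.transvection i j (6 : ZMod 7) * Matrix.transvection i j 1 = 1
      rw [Matrix.transvection_mul_transvection_same (h := hij), show (6 : ZMod 7) + 1 = 0 by decide,
        Matrix.transvection_zero]
    have hc : QuotientGroup.mk' (Subgroup.center SL37)
        (evalPairs (tvWord i j) * Matrix.SpecialLinearGroup.transvection hij (6 : ZMod 7)) = 1 :=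
      (QuotientGroup.eq_one_iff _).2 (mem_center_of_isScalar3 hsc)
    calc QuotientGroup.mk' _ (evalPairs (tvWord i j))
        = QuotientGroup.mk' (Subgroup.center SL37) (evalPairs (tvWord i j) *
            (Matrix.SpecialLinearGroup.transvection hij (6 : ZMod 7) *
              Matrix.SpecialLinearGroup.transvection hij (1 : ZMod 7))) := by rw [h6, mul_one]
      _ = _ := by rw [← mul_assoc, map_mul, hc, one_mul]
  have hT : T = ⊤ := by
    refine CfsgLib.Classical.sl_transvection_induction T fun i j hij c => ?_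
    have h : ∀ k : ℕ, Matrix.SpecialLinearGroup.transvection hij (k : ZMod 7) =
        Matrix.SpecialLinearGroup.transvection hij (1 : ZMod 7) ^ k := by
      intro k
      induction k with
      | zero =>
        apply Subtype.ext
        simp
      | succ k ih =>
        rw [pow_succ, ← ih]
        apply Subtype.ext
        simp only [Matrix.SpecialLinearGroup.coe_mul]
        show Matrix.transvection i j _ = Matrix.transvection i j _ * Matrix.transvection i j _
        rw [Matrix.transvection_mul_transvection_same (h := hij), Nat.cast_succ]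
    rw [← ZMod.natCast_zmod_val c, h]
    exact pow_mem (hgen i j hij) _
  have hsurj : Function.Surjective μ := by
    intro q
    induction q using QuotientGroup.induction_on with
    | _ A => exact (hT ▸ Subgroup.mem_top A : A ∈ T)
  refine ⟨χ.ker, inferInstance, hidx, ⟨MulEquiv.ofBijective μ (hsurj.bijective_of_nat_card_le ?_)⟩⟩
  have h := χ.ker.card_mul_index
  rw [hidx] at h
  have := card_K6_le.2
  rw [card_PSL37]
  omega

theorem exists_index_two_H :
    ∃ N : Subgroup ONPres.H, N.Normal ∧ N.index = 2 ∧ Nonempty (N ≃* PSL37) := by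
  obtain ⟨e⟩ := exists_equiv_H
  obtain ⟨N, hN, hi, ⟨f⟩⟩ := exists_index_two
  refine ⟨N.map e.toMonoidHom, hN.map _ e.surjective, ?_, ⟨(e.subgroupMap N).symm.trans f⟩⟩
  rw [← hi]
  exact Subgroup.index_map_equiv N e

end CfsgLib.KnownA.ONL37
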