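import Cfsg.Agent.Lib.KnownA.ON.Simple
import Cfsg.Agent.Lib.KnownA.ON.PJ.Main
import Cfsg.Agent.Lib.KnownA.ON.PM.Main
import Cfsg.Agent.Lib.StructC.JankoOneSimple
import Cfsg.Agent.Lib.Golay.Mathieu
import Cfsg.Agent.Lib.Invol.Simple

/-!
# Subgroups J1 and M11 of the presented O'Nan group

Each is the image of a two-generator presentation; certified enumerations bound its order and a
surjection onto the model gives simplicity.
-/

set_option autoImplicit false
set_option maxRecDepth 100000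

namespace CfsgLib.KnownA.ONSub

open CfsgLib.InvChar.Coset Cfsg.Spor

/-- A letter as an element of the free group: `0` is the first generator, `1` and `2` the second one
and its inverse. -/
def toFree : ℕ → FreeGroup (Fin 2)
  | 0 => FreeGroup.of 0
  | 1 => FreeGroup.of 1
  | 2 => (FreeGroup.of 1)⁻¹
  | _ => 1

/-- The group presented by some words in the two generators. -/
abbrev PG (R : List (List ℕ)) : Type := PresentedGroup {r | ∃ L ∈ R, r = wprod toFree L}

/-- Its generators. -/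
noncomputable def pgen (R : List (List ℕ)) (x : ℕ) : PG R :=
  PresentedGroup.mk {r | ∃ L ∈ R, r = wprod toFree L} (toFree x)

theorem pgen_rel (R : List (List ℕ)) : ∀ r ∈ R, wprod (pgen R) r = 1 := by
  intro r hr
  have h := PresentedGroup.one_of_mem (rels := {r | ∃ L ∈ R, r = wprod toFree L}) (x := wprod toFree r)
    ⟨r, hr, rfl⟩
  rwa [map_wprod _ toFree (pgen R) r fun x _ => rfl] at h

theorem pgen_three (R : List (List ℕ)) (x : ℕ) (hx : 3 ≤ x) : pgen R x = 1 := by
  obtain ⟨n, rfl⟩ : ∃ n, x = n + 3 := ⟨x - 3, by omega⟩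
  exact map_one _

theorem closure_pgen (R : List (List ℕ)) : Subgroup.closure (pgen R '' Set.Iio 3) = ⊤ := by
  refine top_le_iff.1 ?_
  rw [← PresentedGroup.closure_range_of, Subgroup.closure_le]
  rintro _ ⟨a, rfl⟩
  refine Subgroup.subset_closure ⟨a.val, by simp; omega, ?_⟩
  fin_cases a <;> rfl

/-- Elements satisfying the words give a homomorphism. -/
theorem exists_hom (R : List (List ℕ)) {K : Type*} [Group K] (f : ℕ → K) (h2 : f 2 = (f 1)⁻¹)
    (hR : ∀ r ∈ R, (∀ x ∈ r, x < 3) ∧ wprod f r = 1) :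
    ∃ φ : PG R →* K, ∀ x < 3, φ (pgen R x) = f x := by
  have hval : ∀ x < 3, FreeGroup.lift (fun a : Fin 2 => f a.val) (toFree x) = f x := by
    intro x hx
    interval_cases x <;> simp [toFree, h2]
  have hrel : ∀ r ∈ {r | ∃ L ∈ R, r = wprod toFree L},
      FreeGroup.lift (fun a : Fin 2 => f a.val) r = 1 := by
    rintro _ ⟨L, hL, rfl⟩
    rw [map_wprod _ toFree f L fun x hx => hval x ((hR L hL).1 x hx)]
    exact (hR L hL).2
  refine ⟨PresentedGroup.toGroup hrel, fun x hx => ?_⟩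
  exact hval x hx

/-- A certified enumeration over the subgroup of the product of the generators bounds the order. -/
theorem card_le (D : CosetInv.Cert) (T : Table) {live fin : Tr} (hC : CosetInv.Covered D T live fin)
    (hiv : ∀ x < 16, D.iv x = if x = 1 then 2 else if x = 2 then 1 else x)
    (hg : T.g = 3) (hsubs : D.subs = [[0, 1]]) (h00 : [0, 0] ∈ D.rels) (k : ℕ) (hk : 0 < k)
    (hpow : (List.replicate k [0, 1]).flatten ∈ D.rels) :
    Finite (PG D.rels) ∧ Nat.card (PG D.rels) ≤ T.n * k := by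
  let s := pgen D.rels
  have h2 : s 2 = (s 1)⁻¹ := map_inv _ _
  have h0 : s 0 * s 0 = 1 := by
    have h := pgen_rel D.rels _ h00
    simpa [wprod] using h
  have hgood : CosetInv.Good D s := by
    refine ⟨pgen_three _ 15 (by norm_num), fun x => ?_⟩
    rcases Nat.lt_or_ge x 16 with hx | hx
    · rw [hiv x hx]
      rcases Nat.lt_or_ge x 3 with h3 | h3
      · interval_cases x
        · exact eq_inv_of_mul_eq_one_left h0
        · simpa using h2
        · simp [h2]
      · rw [if_neg (by omega), if_neg (by omega)]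
        simp [s, pgen_three D.rels x h3]
    · have hb : Nat.blt x 16 = false := by
        rw [Bool.eq_false_iff]; simp [Nat.blt]; omega
      simp [CosetInv.Cert.iv, hb, s, pgen_three D.rels x (by omega)]
  let K := Subgroup.zpowers (s 0 * s 1)
  have hS : ∀ r ∈ D.subs, wprod s r ∈ K := by
    intro r hr
    rw [hsubs, List.mem_singleton] at hr
    subst hr
    simp [wprod, K]
  have hp : (s 0 * s 1) ^ k = 1 := by
    rw [← wprod_replicate s 0 1 k]
    exact pgen_rel D.rels _ hpow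
  have hidx := hC.index_le s K hgood (pgen_rel D.rels) hS (hg ▸ closure_pgen D.rels)
  have hK : Nat.card K ≤ k := by
    rw [Nat.card_zpowers]
    exact orderOf_le_of_pow_eq_one hk hp
  have hfin : Finite K := Nat.finite_of_card_ne_zero (by
    rw [Nat.card_zpowers]
    exact (orderOf_pos_iff.2 (isOfFinOrder_iff_pow_eq_one.2 ⟨k, hk, hp⟩)).ne')
  exact card_le_of_index K hfin hidx hK

theorem dvd_card_of_pow {G : Type*} [Group G] (K : Subgroup G) (p : ℕ) (hp : p.Prime) {u : G}
    (hu : u ∈ K) (h1 : u ^ p = 1) (h2 : u ≠ 1) : p ∣ Nat.card K := by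
  haveI := Fact.mk hp
  have h := orderOf_dvd_natCard (⟨u, hu⟩ : K)
  rwa [Subgroup.orderOf_mk, orderOf_eq_prime h1 h2] at h

theorem wprod_mem_range {P G : Type*} [Group P] [Group G] (ψ : P →* G) (s : ℕ → P) (f : ℕ → G)
    (h : ∀ x < 3, ψ (s x) = f x) (L : List ℕ) (hL : ∀ x ∈ L, x < 3) : wprod f L ∈ ψ.range :=
  ⟨wprod s L, map_wprod ψ s f L fun x hx => h x (hL x hx)⟩

/-! ### The model J1 -/

open CfsgLib.KnownA.JankoOne CfsgLib.Recog.JankoOne in
/-- Words for the standard generators of J1 in the two given matrices. -/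
def jWord : ℕ → List ℕ
  | 0 => [2, 2, 2, 2, 1, 1, 1, 1, 1, 1, 2, 2, 2, 2, 1, 1, 1, 1, 1, 1, 1, 1, 1, 1, 1, 1, 1, 2, 2, 1, 2, 2, 2, 2, 2, 1, 1, 2, 2, 1, 2, 2, 2, 2, 2, 1, 1, 2, 2, 1, 2, 2, 2, 2, 2, 1, 1, 1, 2, 1, 2]
  | 1 => [1, 1, 1, 1, 1, 1, 1, 1, 1, 1, 1, 1, 1, 1, 1, 1, 1, 1, 1, 2, 2, 2, 1, 2, 2, 2, 1, 1, 1]
  | 2 => [1, 1, 1, 1, 1, 1, 1, 1, 1, 1, 1, 1, 1, 1, 1, 1, 1, 1, 1, 2, 2, 2, 1, 2, 2, 2, 1, 1, 1, 1, 1, 1, 1, 1, 1, 1, 1, 1, 1, 1, 1, 1, 1, 1, 1, 1, 1, 1, 2, 2, 2, 1, 2, 2, 2, 1, 1, 1]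
  | _ => []

open CfsgLib.KnownA.JankoOne CfsgLib.Recog.JankoOne in
theorem exists_equiv_J : IsSimpleGroup (PG ONData.PJ.rels) ∧ Nat.card (PG ONData.PJ.rels) = 175560 := by
  obtain ⟨hfin, hle⟩ := card_le ONData.PJ.cert ONData.PJ.table ONData.PJ.covered (by decide +kernel) rfl rfl
    (by decide +kernel) 7 (by norm_num) (by decide +kernel)
  haveI : Finite (PG ONData.PJ.rels) := hfin
  let f : ℕ → J := fun x => wEl (jWord x)
  have hw : ∀ L : List ℕ, wprod f L = wEl (L.flatMap jWord) := by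
    intro L
    induction L with
    | nil => rfl
    | cons a L ih =>
      show f a * wprod f L = wEl (jWord a ++ L.flatMap jWord)
      rw [ih]
      simp [f, wEl]
  have hone : ∀ L : List ℕ, (wordEval (L.flatMap jWord)).beq oneM = true → wprod f L = 1 := fun L h => by
    rw [hw]
    apply mat_inj
    rw [mat_wEl, toMat_inj_of_beq h, oneM_toMat, mat_one]
  have hne : ∀ L : List ℕ, (wordEval (L.flatMap jWord)).toMat ≠ 1 → wprod f L ≠ 1 := fun L h e => by
    rw [hw] at e
    exact h (by rw [← mat_wEl, e, mat_one])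
  have h12 : f 2 = (f 1)⁻¹ := by
    refine eq_inv_of_mul_eq_one_left ?_
    have h := hone [2, 1] (by decide +kernel)
    simpa [wprod] using h
  obtain ⟨ψ, hψ⟩ := exists_hom ONData.PJ.rels f h12 fun r hr =>
    ⟨(by decide +kernel : ∀ r ∈ ONData.PJ.rels, ∀ x ∈ r, x < 3) r hr,
      hone r ((by decide +kernel : ∀ r ∈ ONData.PJ.rels, (wordEval (r.flatMap jWord)).beq oneM = true) r hr)⟩
  haveI : Finite J := Nat.finite_of_card_ne_zero (by rw [card_J]; norm_num)
  haveI : IsSimpleGroup J := CfsgLib.StructC.JankoOneSimple.isSimple_J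
  have hp : ∀ (p : ℕ) (L : List ℕ), p.Prime → (∀ x ∈ L, x < 3) →
      (wordEval ((List.replicate p L).flatten.flatMap jWord)).beq oneM = true →
      (wordEval (L.flatMap jWord)).toMat ≠ 1 → p ∣ Nat.card ψ.range := by
    intro p L hp hL h1 h2
    refine dvd_card_of_pow _ p hp (wprod_mem_range ψ _ f hψ L hL) ?_ (hne L h2)
    rw [← ONPres.wprod_flatten_replicate]
    exact hone _ h1
  have h2 := hp 2 [0] (by norm_num) (by decide) (by decide +kernel) (by decide +kernel)
  have h3 := hp 3 [1] (by norm_num) (by decide) (by decide +kernel) (by decide +kernel)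
  have h5 := hp 5 [0, 1, 0, 1, 0, 2, 0, 1, 0, 2, 0, 1, 0, 2] (by norm_num) (by decide) (by decide +kernel) (by decide +kernel)
  have h7 := hp 7 [0, 1] (by norm_num) (by decide) (by decide +kernel) (by decide +kernel)
  have h11 := hp 11 [0, 1, 0, 1, 0, 2, 0, 1, 0, 2, 0, 1, 0, 2, 0, 1, 0, 2] (by norm_num) (by decide) (by decide +kernel) (by decide +kernel)
  have h19 := hp 19 [0, 1, 0, 2] (by norm_num) (by decide) (by decide +kernel) (by decide +kernel)
  have hsurj : ψ.range = ⊤ := by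
    by_contra hne'
    have hdvd := CfsgLib.Invol.card_dvd_index_factorial hne'
    have hm := ψ.range.card_mul_index
    rw [card_J] at hdvd hm
    have h43890 : 43890 ∣ Nat.card ψ.range := by omega
    obtain ⟨c, hc⟩ := h43890
    rw [hc] at hm
    have hidx : ψ.range.index ∣ 4 := ⟨c, by nlinarith⟩
    have h24 : (175560 : ℕ) ∣ Nat.factorial 4 :=
      hdvd.trans (Nat.factorial_dvd_factorial (Nat.le_of_dvd (by norm_num) hidx))
    revert h24
    decide
  have hb : Function.Bijective ψ :=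
    (MonoidHom.range_eq_top.1 hsurj).bijective_of_nat_card_le (by rw [card_J]; exact hle.trans (by decide +kernel))
  let E := MulEquiv.ofBijective ψ hb
  exact ⟨E.isSimpleGroup, by rw [Nat.card_congr E.toEquiv, card_J]⟩

/-! ### The model M11 -/

open CfsgLib.Golay in
/-- Codes of the images of the letters in M11 (the inverses of the acting permutations). -/
def mCode : ℕ → ℕ
  | 0 => 652347741100061557169914214413831360
  | 1 => 850547207142232852610483649648181824
  | _ => 596129968124820832490649655156460032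

open CfsgLib.Golay Cfsg in
theorem exists_equiv_M : IsSimpleGroup (PG ONData.PM.rels) ∧ Nat.card (PG ONData.PM.rels) = 7920 := by
  obtain ⟨hfin, hle⟩ := card_le ONData.PM.cert ONData.PM.table ONData.PM.covered (by decide +kernel) rfl rfl
    (by decide +kernel) 11 (by norm_num) (by decide +kernel)
  haveI : Finite (PG ONData.PM.rels) := hfin
  have hfix : ∀ x, inFix X11 (mCode x) = true := by
    intro x
    rcases Nat.lt_or_ge x 2 with hx | hx
    · interval_cases x <;> decide +kernel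
    · obtain ⟨n, rfl⟩ : ∃ n, x = n + 2 := ⟨x - 2, by omega⟩
      show inFix X11 (mCode 2) = true
      decide +kernel
  let f : ℕ → Spor.M11 := fun x => ⟨permOf (mCode x), by rw [sporM11_eq]; exact inFix_mem (hfix x)⟩
  have happ : ∀ (L : List ℕ) (p : GolayPt),
      (wprod f L : Spor.M11).1 p = L.foldr (fun x q => pt (img (mCode x) (CfsgLib.Golay.idx q))) p := by
    intro L p
    induction L with
    | nil => rfl
    | cons a L ih =>
      show ((f a * wprod f L : Spor.M11)).1 p = _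
      rw [Subgroup.coe_mul, Equiv.Perm.mul_apply, ih, List.foldr_cons]
      exact permOf_apply (inFix_valid (hfix a)) _
  have hone : ∀ L : List ℕ, (∀ p : GolayPt, L.foldr (fun x q => pt (img (mCode x) (CfsgLib.Golay.idx q))) p = p) →
      wprod f L = 1 := fun L h => Subtype.ext (Equiv.ext fun p => by rw [happ, h p]; rfl)
  have hne : ∀ L : List ℕ, (∃ p : GolayPt, L.foldr (fun x q => pt (img (mCode x) (CfsgLib.Golay.idx q))) p ≠ p) →
      wprod f L ≠ 1 := fun L ⟨p, hp⟩ e => hp (by rw [← happ, e]; rfl)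
  have h12 : f 2 = (f 1)⁻¹ := by
    refine eq_inv_of_mul_eq_one_left ?_
    have h := hone [2, 1] (by decide +kernel)
    simpa [wprod] using h
  obtain ⟨ψ, hψ⟩ := exists_hom ONData.PM.rels f h12 fun r hr =>
    ⟨(by decide +kernel : ∀ r ∈ ONData.PM.rels, ∀ x ∈ r, x < 3) r hr,
      hone r ((by decide +kernel : ∀ r ∈ ONData.PM.rels, ∀ p : GolayPt,
        r.foldr (fun x q => pt (img (mCode x) (CfsgLib.Golay.idx q))) p = p) r hr)⟩
  haveI : Finite Spor.M11 := Nat.finite_of_card_ne_zero (by rw [card_sporM11]; norm_num)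
  haveI : IsSimpleGroup Spor.M11 := isSimple_sporM11
  have hp : ∀ (p : ℕ) (L : List ℕ), p.Prime → (∀ x ∈ L, x < 3) →
      (∀ q : GolayPt, (List.replicate p L).flatten.foldr (fun x q => pt (img (mCode x) (CfsgLib.Golay.idx q))) q = q) →
      (∃ q : GolayPt, L.foldr (fun x q => pt (img (mCode x) (CfsgLib.Golay.idx q))) q ≠ q) → p ∣ Nat.card ψ.range := by
    intro p L hp hL h1 h2
    refine dvd_card_of_pow _ p hp (wprod_mem_range ψ _ f hψ L hL) ?_ (hne L h2)
    rw [← ONPres.wprod_flatten_replicate]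
    exact hone _ h1
  have h3 := hp 3 [0, 1, 1, 0, 1, 1] (by norm_num) (by decide) (by decide +kernel) (by decide +kernel)
  have h5 := hp 5 [0, 1, 0, 1, 1, 0, 2] (by norm_num) (by decide) (by decide +kernel) (by decide +kernel)
  have h11 := hp 11 [0, 1] (by norm_num) (by decide) (by decide +kernel) (by decide +kernel)
  have h8 : 8 ∣ Nat.card ψ.range := by
    let u : ψ.range := ⟨_, wprod_mem_range ψ _ f hψ [0, 1, 0, 1, 0, 1, 0, 2] (by decide)⟩
    haveI : Fact (Nat.Prime 2) := ⟨Nat.prime_two⟩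
    have hu : orderOf u = 2 ^ (2 + 1) := by
      refine orderOf_eq_prime_pow (fun e => ?_) ?_
      · have e' : wprod f [0, 1, 0, 1, 0, 1, 0, 2] ^ (2 ^ 2) = 1 := congrArg Subtype.val e
        rw [← ONPres.wprod_flatten_replicate] at e'
        exact hne _ (by decide +kernel) e'
      · refine Subtype.ext ?_
        show wprod f [0, 1, 0, 1, 0, 1, 0, 2] ^ (2 ^ (2 + 1)) = 1
        rw [← ONPres.wprod_flatten_replicate]
        exact hone _ (by decide +kernel)
    exact (show 8 = 2 ^ (2 + 1) by norm_num) ▸ hu ▸ orderOf_dvd_natCard u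
  have hsurj : ψ.range = ⊤ := by
    by_contra hne'
    have hdvd := CfsgLib.Invol.card_dvd_index_factorial hne'
    have hm := ψ.range.card_mul_index
    rw [card_sporM11] at hdvd hm
    have h1320 : 1320 ∣ Nat.card ψ.range := by omega
    obtain ⟨c, hc⟩ := h1320
    rw [hc] at hm
    have hidx : ψ.range.index ∣ 6 := ⟨c, by nlinarith⟩
    have h720 : (7920 : ℕ) ∣ Nat.factorial 6 :=
      hdvd.trans (Nat.factorial_dvd_factorial (Nat.le_of_dvd (by norm_num) hidx))
    revert h720
    decide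
  have hb : Function.Bijective ψ :=
    (MonoidHom.range_eq_top.1 hsurj).bijective_of_nat_card_le (by rw [card_sporM11]; exact hle.trans (by decide +kernel))
  let E := MulEquiv.ofBijective ψ hb
  exact ⟨E.isSimpleGroup, by rw [Nat.card_congr E.toEquiv, card_sporM11]⟩

/-! ### The images in the O'Nan group -/

/-- The images of the letters. -/
def onWord (A B Bi : List ℕ) : ℕ → List ℕ
  | 0 => A
  | 1 => B
  | 2 => Bi
  | _ => []

theorem exists_subgroup (R : List (List ℕ)) [IsSimpleGroup (PG R)] (A B Bi : List ℕ)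
    (hBi : (B.map ONData.cert.iv).reverse = Bi) (hR : ∀ r ∈ R, (∀ x ∈ r, x < 3) ∧
      (∀ x ∈ r.flatMap (onWord A B Bi), x < 8) ∧
      ∀ i ∈ [0, 1, 27], ONData.table.follow (r.flatMap (onWord A B Bi)) i = i)
    (hA : ∀ x ∈ A, x < 8) (hne : ONData.table.follow A 0 ≠ 0 ∨ ONData.table.follow A 1 ≠ 1) :
    ∃ K : Subgroup ON, Nonempty (PG R ≃* K) := by
  let f : ℕ → ON := fun x => wprod ONPres.gen (onWord A B Bi x)
  have hw : ∀ L : List ℕ, wprod f L = wprod ONPres.gen (L.flatMap (onWord A B Bi)) := by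
    intro L
    induction L with
    | nil => rfl
    | cons a L ih =>
      show f a * wprod f L = wprod ONPres.gen (onWord A B Bi a ++ L.flatMap (onWord A B Bi))
      rw [wprod_append, ih]
  have h12 : f 2 = (f 1)⁻¹ := by
    show wprod ONPres.gen Bi = (wprod ONPres.gen B)⁻¹
    rw [← hBi]
    exact CosetInv.wprod_map_iv_reverse ONData.cert ONPres.gen ONPres.good B
  obtain ⟨ψ, hψ⟩ := exists_hom R f h12 fun r hr =>
    ⟨(hR r hr).1, by rw [hw]; exact ONPres.wprod_eq_one_of_follow _ (hR r hr).2.1 (hR r hr).2.2⟩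
  have hnt : ψ (pgen R 0) ≠ 1 := by
    intro e
    rw [hψ 0 (by norm_num)] at e
    have e' : wprod ONPres.gen A = 1 := e
    have hA' : ∀ x ∈ A, x < ONData.table.g := hA
    have hf : ∀ i : Fin ONData.table.n, ONData.table.follow A i = i := by
      intro i
      rw [CosetInv.follow_eq ONData.valid ONPres.pairs' A hA',
        ← map_wprod ONPres.rep ONPres.gen _ A fun y hy => ONPres.rep_gen y (hA' y hy), e', map_one,
        inv_one, Equiv.Perm.one_apply]
    rcases hne with h | h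
    · exact h (hf ⟨0, by decide +kernel⟩)
    · exact h (hf ⟨1, by decide +kernel⟩)
  have hinj : Function.Injective ψ := by
    rw [← MonoidHom.ker_eq_bot_iff]
    refine (ψ.normal_ker.eq_bot_or_eq_top).resolve_right fun h => hnt ?_
    exact (h ▸ Subgroup.mem_top (pgen R 0) : pgen R 0 ∈ ψ.ker)
  exact ⟨ψ.range, ⟨MonoidHom.ofInjective hinj⟩⟩

theorem exists_J1 : ∃ K : Subgroup ON, Cfsg.IsJ1 K := by
  obtain ⟨hs, hc⟩ := exists_equiv_J
  obtain ⟨K, ⟨e⟩⟩ := exists_subgroup ONData.PJ.rels [3, 1, 2, 3, 1, 3, 1, 3, 2, 1, 3] [2, 4, 3, 0, 7, 7, 2, 7, 3, 4, 6, 2, 6, 6, 0, 3, 4, 2] [2, 4, 3, 0, 7, 7, 2, 7, 4, 3, 6, 2, 6, 6, 0, 3, 4, 2]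
    (by decide +kernel) (by decide +kernel) (by decide) (by decide +kernel)
  exact ⟨K, e.symm.isSimpleGroup, by rw [← Nat.card_congr e.toEquiv, hc]⟩

theorem exists_M11 : ∃ K : Subgroup ON, Cfsg.IsM11 K := by
  obtain ⟨hs, hc⟩ := exists_equiv_M
  obtain ⟨K, ⟨e⟩⟩ := exists_subgroup ONData.PM.rels [4, 3, 2, 4, 2, 4, 2, 3, 4] [7, 3, 2, 5, 7, 1, 7, 3, 0, 2, 4, 1, 6, 2, 3, 6, 5, 2, 3, 6] [7, 3, 2, 5, 7, 3, 2, 7, 1, 4, 2, 0, 3, 6, 1, 6, 5, 2, 3, 6]
    (by decide +kernel) (by decide +kernel) (by decide) (by decide +kernel)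
  exact ⟨K, e.symm.isSimpleGroup, by rw [← Nat.card_congr e.toEquiv, hc]⟩

/-- The O'Nan group as a permutation group on 122760 points. -/
theorem exists_perm_group : ∃ H : Subgroup (Equiv.Perm (Fin 122760)), Cfsg.IsON H ∧
    MulAction.IsPretransitive H (Fin 122760) ∧
    Nat.card (MulAction.stabilizer H (0 : Fin 122760)) = 3753792 ∧
    (∃ K : Subgroup H, Cfsg.IsJ1 K) ∧ (∃ K : Subgroup H, Cfsg.IsM11 K) := by
  obtain ⟨hi, e, -, he⟩ := ONPres.index_H
  let ρ : ON →* Equiv.Perm (Fin 122760) := ONPres.rep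
  have hinj : Function.Injective ρ := ONPres.rep_injective
  let E : ON ≃* ρ.range := MonoidHom.ofInjective hinj
  haveI := ONPres.isSimpleGroup
  have hcard : Nat.card ρ.range = 460815505920 := by
    rw [← Nat.card_congr E.toEquiv, ONPres.card_ON]
  have htrans : MulAction.IsPretransitive ρ.range (Fin 122760) := ⟨fun i j => by
    obtain ⟨g, hg⟩ := MulAction.exists_smul_eq ON (e i) (e j)
    exact ⟨⟨ρ g, g, rfl⟩, e.injective ((he g i).symm.trans hg)⟩⟩
  refine ⟨ρ.range, ⟨E.symm.isSimpleGroup, hcard⟩, htrans, ?_, ?_, ?_⟩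
  · haveI := htrans
    have h := (MulAction.stabilizer ρ.range (0 : Fin 122760)).card_mul_index
    rw [MulAction.index_stabilizer_of_transitive, Nat.card_fin, hcard] at h
    omega
  · obtain ⟨K, hs, hc⟩ := exists_J1
    exact ⟨K.map E.toMonoidHom, (E.subgroupMap K).symm.isSimpleGroup,
      (Nat.card_congr (E.subgroupMap K).toEquiv).symm.trans hc⟩
  · obtain ⟨K, hs, hc⟩ := exists_M11
    exact ⟨K.map E.toMonoidHom, (E.subgroupMap K).symm.isSimpleGroup,
      (Nat.card_congr (E.subgroupMap K).toEquiv).symm.trans hc⟩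

end CfsgLib.KnownA.ONSub
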